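/-
Generalized parabolic structures on curves: dimensions of fibres over a divisor and their maps.
-/
import Groth.Agent.L21.Bundle.Tors
import Groth.Agent.L21.RR.IdealTwist
import Groth.Agent.L15.Ref.InvDiv
import Groth.Agent.L15.Ref.Tensor
import Groth.Agent.L00.KFlatBasic
import Groth.Agent.L29.DCoh.Flat
import Groth.Agent.L13.KcohNilp
import Groth.Prelude.Def_ParBun2

set_option autoImplicit false
set_option linter.style.haveILetI false
set_option backward.isDefEq.respectTransparency false

universe u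

open CategoryTheory CategoryTheory.Limits AlgebraicGeometry

noncomputable section

namespace Groth.L13.GPar

open Groth.L21.Bundle (rk rk_eq rk_add dg dg_eq isCoh_of_rank)
open Groth.L21.RR (SuppClosed h hk)

variable {X : Scheme.{u}}

/-- Tensoring with `O_D`. -/
abbrev R (I : X.IdealSheafData) : X.Modules ⥤ X.Modules := Groth.L00.Tensor.tensorRightF (ClSub.quotMod I)

theorem resDMap_eq (I : X.IdealSheafData) {E E' : X.Modules} (φ : E ⟶ E') : ParSh.resDMap I φ = (R I).map φ := by
  show (DCoh.tensorBi.map φ).app _ ≫ (DCoh.tensorBi.obj E').map (𝟙 _) = Groth.L00.Tensor.tensorMap φ (𝟙 _)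
  rw [CategoryTheory.Functor.map_id]
  refine (Category.comp_id _).trans ?_
  refine congrArg (Groth.L00.Tensor.shf X).map ?_
  rw [CategoryTheory.Functor.map_id]
  exact (MonoidalCategory.tensorHom_id _ _).symm

variable (k : Type u) [Field k] [X.Over (Spec (CommRingCat.of k))]

theorem fibDMap_apply (I : X.IdealSheafData) {E E' : X.Modules} (φ : E ⟶ E') (x : ParSh.fibD X I E) :
    ParSh.fibDMap k X I φ x = hk k ((R I).map φ) 0 x := by
  rw [← resDMap_eq]; rfl

theorem fibDMap_comp (I : X.IdealSheafData) {E E' E'' : X.Modules} (φ : E ⟶ E') (ψ : E' ⟶ E'')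
    (x : ParSh.fibD X I E) :
    ParSh.fibDMap k X I (φ ≫ ψ) x = ParSh.fibDMap k X I ψ (ParSh.fibDMap k X I φ x) := by
  rw [fibDMap_apply, fibDMap_apply, fibDMap_apply, Functor.map_comp]
  exact Groth.L16.CohLinear.hmap_comp _ _ 0 x

theorem fibDMap_id (I : X.IdealSheafData) {E : X.Modules} (x : ParSh.fibD X I E) :
    ParSh.fibDMap k X I (𝟙 E) x = x := by
  rw [fibDMap_apply, CategoryTheory.Functor.map_id]
  exact Groth.L16.CohLinear.hmap_id 0 x

theorem suppClosed_resD {I : X.IdealSheafData} (hs : SuppClosed (ClSub.quotMod I)) (E : X.Modules) :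
    SuppClosed (ParSh.resD I E) := fun x hx => by
  by_contra hne
  exact (Groth.L13.KcohNilp.support_tensor_subset E (ClSub.quotMod I) (a := x) hne) (hs x hx)

theorem suppClosed_sub {M N : X.Modules} (φ : M ⟶ N) [Mono φ] (hN : SuppClosed N) : SuppClosed M := fun x hx =>
  haveI := hN x hx
  (Groth.L21.Bundle.injective_sm φ x).subsingleton

theorem suppClosed_quot {M N : X.Modules} (φ : M ⟶ N) [Epi φ] (hM : SuppClosed M) : SuppClosed N := fun x hx => by
  by_contra hne
  exact (Groth.L21.Mod.support_epi φ (a := x) hne) (hM x hx)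

variable [IsProper (X ↘ Spec (CommRingCat.of k))]

theorem euler_nonneg {M : X.Modules} (hM : SuppClosed M) : 0 ≤ Curv2.euler k X M := by
  rw [Groth.L21.RR.euler_eq_h0_of_suppClosed k hM]; positivity

/-- The kernel on global sections. -/
theorem ker_hk {M N : X.Modules} (g : M ⟶ N) :
    LinearMap.ker (hk k g 0) = LinearMap.range (hk k (kernel.ι g) 0) := by
  ext x
  constructor
  · intro hx
    have h1 : hk k (Abelian.factorThruImage g) 0 x = 0 := by
      refine Groth.L21.RR.injective_hmap_zero (Abelian.image.ι g) ?_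
      refine (Groth.L16.CohLinear.hmap_comp _ _ 0 x).symm.trans ?_
      rw [Abelian.image.fac]
      exact (LinearMap.mem_ker.1 hx).trans (map_zero _).symm
    exact (Groth.L16.CohLinear.exact_hmap_hmap (Groth.L16.Devissage.shortExact_kernel_image g) 0 x).1 h1
  · rintro ⟨y, rfl⟩
    refine (Groth.L16.CohLinear.hmap_comp _ _ 0 y).symm.trans ?_
    rw [kernel.condition]
    exact Groth.L21.RR.hmap_zero _ _ 0 y

variable [IsIntegral X] [IsLocallyNoetherian X]
  (hreg : ∀ x : X, IsRegularLocalRing (X.presheaf.stalk x)) (hd : topologicalKrullDim X ≤ 1)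
  {I : X.IdealSheafData}

include hd in
theorem suppClosed_quotMod (hD : FGA.IsEffCartier I) : SuppClosed (ClSub.quotMod I) := by
  refine Groth.L21.RR.suppClosed_quotMod_of_notMem hd I ?_
  have h := Groth.L15.Ref.genericPoint_not_mem_range (D := I) hD
  rwa [Scheme.IdealSheafData.range_subschemeι] at h

omit [IsIntegral X] [IsProper (X ↘ Spec (CommRingCat.of k))] [X.Over (Spec (CommRingCat.of k))] in
theorem isCoh_resD (I : X.IdealSheafData) {E : X.Modules} (hE : Coh.IsCoh E) : Coh.IsCoh (ParSh.resD I E) :=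
  Groth.L15.Ref.isCoh_tensorMod hE (Groth.L21.RR.isCoh_quotMod I)

omit [IsIntegral X] in
theorem finite_fibD (I : X.IdealSheafData) {E : X.Modules} (hE : Coh.IsCoh E) :
    Module.Finite k (ParSh.fibD X I E) :=
  Groth.L21.RR.finite_HH' k (isCoh_resD I hE) 0

omit [IsIntegral X] in
/-- The dimension of the fibre over the divisor. -/
theorem finrank_fibD (hs : SuppClosed (ClSub.quotMod I)) {r : ℕ} {E : X.Modules}
    (hE : FlatMod.IsFinLocFreeOfRank r E) :
    (Module.finrank k (ParSh.fibD X I E) : ℤ) = r * Curv2.euler k X (ClSub.quotMod I) := by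
  haveI := Groth.L21.RR.isNoetherian_of_proper (X := X) k
  have h1 := Groth.L22.CurveDeg.euler_tensor_locFree (k := k) hE (Groth.L21.RR.isCoh_quotMod I) hs
  have h2 : Curv2.euler k X (ParSh.resD I E) = Curv2.euler k X (CohB1.tensorMod (ClSub.quotMod I) E) :=
    Groth.L03.Euler.euler_iso ((Groth.L00.Tensor.tensorFlipIso (ClSub.quotMod I)).app E)
  rw [Groth.L21.RR.euler_eq_h0_of_suppClosed k (suppClosed_resD hs E), h1] at h2
  exact h2

attribute [local irreducible] Groth.L21.Bundle.dg Groth.L21.Bundle.rk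

include hd in
/-- The kernel over the divisor of a full rank subsheaf is bounded by the cokernel degree. -/
theorem finrank_ker_le (hD : FGA.IsEffCartier I) {n : ℕ} {E F : X.Modules}
    (hE : FlatMod.IsFinLocFreeOfRank n E) (hF : FlatMod.IsFinLocFreeOfRank n F) (f : E ⟶ F) [Mono f] :
    (Module.finrank k (LinearMap.ker (ParSh.fibDMap k X I f)) : ℤ) ≤ Curv2.deg k X F n - Curv2.deg k X E n := by
  have hs := suppClosed_quotMod hd hD
  have hcE := isCoh_of_rank hE
  have hcF := isCoh_of_rank hF
  have hcT : Coh.IsCoh (cokernel f) := (Groth.L03.ShStab.Basic.coh_parts k hcE hcF f).2.2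
  let g := (R I).map f
  obtain ⟨hcA, hcIm, hcB⟩ := Groth.L03.ShStab.Basic.coh_parts k (isCoh_resD I hcE) (isCoh_resD I hcF) g
  -- Euler characteristics
  have e1 := Groth.L21.RR.euler_add k hd (Groth.L16.Devissage.shortExact_kernel_image g) hcA (isCoh_resD I hcE) hcIm
  let S₂ : ShortComplex X.Modules := ShortComplex.mk (Abelian.image.ι g) (cokernel.π g) (kernel.condition _)
  have hS₂ : S₂.ShortExact := { exact := ShortComplex.exact_of_f_is_kernel _ (kernelIsKernel (cokernel.π g)) }
  have e2 := Groth.L21.RR.euler_add k hd hS₂ hcIm (isCoh_resD I hcF) hcB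
  have hED := finrank_fibD k hs hE
  have hFD := finrank_fibD k hs hF
  rw [← Groth.L21.RR.euler_eq_h0_of_suppClosed k (suppClosed_resD hs E)] at hED
  rw [← Groth.L21.RR.euler_eq_h0_of_suppClosed k (suppClosed_resD hs F)] at hFD
  -- the cokernel over the divisor is a quotient of the cokernel
  have hTsupp : SuppClosed (cokernel f) := by
    refine Groth.L21.Bundle.suppClosed_of_rk_eq_zero hd hcT ?_
    have := rk_add (S := ShortComplex.mk f (cokernel.π f) (cokernel.condition f))
      ⟨ShortComplex.exact_of_g_is_cokernel _ (cokernelIsCokernel f)⟩ hcF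
    change rk F = rk E + rk (cokernel f) at this
    rw [rk_eq hE, rk_eq hF] at this
    omega
  haveI : PreservesColimitsOfSize.{0, 0} (R I) := preservesColimitsOfSize_shrink.{0, u, 0, u} _
  haveI : (R I).PreservesZeroMorphisms := Functor.preservesZeroMorphisms_of_preserves_initial_object
  haveI := Groth.L21.RR.epi_toSubscheme I
  haveI : Epi (((DCoh.tensorBi (X := X)).obj (cokernel f)).map (ClSub.toSubscheme I)) := inferInstance
  let π : cokernel f ⟶ cokernel g := (SecTwist.unitorR (cokernel f)).inv ≫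
    ((DCoh.tensorBi (X := X)).obj (cokernel f)).map (ClSub.toSubscheme I) ≫
      (PreservesCokernel.iso (R I) f).hom
  haveI : Epi π := inferInstance
  have e3 := Groth.L21.RR.euler_add k hd (Groth.L21.Bundle.shortExact_kernel π)
    (Groth.L03.ShStab.Basic.coh_parts k hcT hcB π).1 hcT hcB
  have h3 := euler_nonneg k (suppClosed_sub (kernel.ι π) hTsupp)
  have e4 := Groth.L21.RR.euler_add k hd (Groth.L21.Bundle.shortExact_cokernel f) hcE hcF hcT
  change Curv2.euler k X (ParSh.resD I E) = Curv2.euler k X (kernel g) + Curv2.euler k X (Abelian.image g) at e1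
  change Curv2.euler k X (ParSh.resD I F) = Curv2.euler k X (Abelian.image g) + Curv2.euler k X (cokernel g) at e2
  change Curv2.euler k X (cokernel f) = Curv2.euler k X (kernel π) + Curv2.euler k X (cokernel g) at e3
  change Curv2.euler k X F = Curv2.euler k X E + Curv2.euler k X (cokernel f) at e4
  -- the kernel on global sections
  have hker : LinearMap.ker (ParSh.fibDMap k X I f) = LinearMap.range (hk k (kernel.ι g) 0) := by
    rw [← ker_hk]
    ext x
    simp only [LinearMap.mem_ker, fibDMap_apply]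
    rfl
  have hle : Module.finrank k (LinearMap.ker (ParSh.fibDMap k X I f)) ≤ h k 0 (kernel g) := by
    rw [hker]
    haveI := Groth.L21.RR.finite_HH' k hcA 0
    exact LinearMap.finrank_range_le _
  have hA := Groth.L21.RR.euler_eq_h0_of_suppClosed k (suppClosed_sub (kernel.ι g) (suppClosed_resD hs E))
  have hle' : (Module.finrank k (LinearMap.ker (ParSh.fibDMap k X I f)) : ℤ) ≤ (h k 0 (kernel g) : ℤ) :=
    Int.ofNat_le.2 hle
  simp only [Curv2.deg]
  omega

omit [IsIntegral X] [IsLocallyNoetherian X] [IsProper (X ↘ Spec (CommRingCat.of k))] [X.Over (Spec (CommRingCat.of k))] in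
theorem finrank_le_map_add_ker {K V W : Type*} [Field K] [AddCommGroup V] [Module K V] [Module.Finite K V]
    [AddCommGroup W] [Module K W] (φ : V →ₗ[K] W) (P : Submodule K V) :
    Module.finrank K P = Module.finrank K (P.map φ) + Module.finrank K (P ⊓ LinearMap.ker φ : Submodule K V) := by
  have h1 := LinearMap.finrank_range_add_finrank_ker (φ.domRestrict P)
  rw [LinearMap.range_domRestrict] at h1
  have h2 : Module.finrank K (LinearMap.ker (φ.domRestrict P)) =
      Module.finrank K (P ⊓ LinearMap.ker φ : Submodule K V) := by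
    rw [LinearMap.ker_domRestrict]
    exact LinearEquiv.finrank_eq ((Submodule.equivMapOfInjective P.subtype (Submodule.injective_subtype P) _).trans
      (LinearEquiv.ofEq _ _ (Submodule.map_comap_subtype P (LinearMap.ker φ))))
  omega

include hd in
/-- A parabolic monomorphism between bundles of the same rank. -/
theorem finrank_le_of_mono (hD : FGA.IsEffCartier I) {n : ℕ} {E F : X.Modules}
    (hE : FlatMod.IsFinLocFreeOfRank n E) (hF : FlatMod.IsFinLocFreeOfRank n F) (f : E ⟶ F) [Mono f]
    (P : Submodule k (ParSh.fibD X I E)) (Q : Submodule k (ParSh.fibD X I F))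
    (hPQ : P.map (ParSh.fibDMap k X I f) ≤ Q) :
    (Module.finrank k P : ℤ) ≤ Module.finrank k Q + (Curv2.deg k X F n - Curv2.deg k X E n) := by
  haveI := finite_fibD k I (isCoh_of_rank hE)
  haveI := finite_fibD k I (isCoh_of_rank hF)
  have h1 := finrank_le_map_add_ker (ParSh.fibDMap k X I f) P
  have h2 := Submodule.finrank_mono hPQ
  have h3 := Submodule.finrank_mono (inf_le_right : P ⊓ LinearMap.ker (ParSh.fibDMap k X I f) ≤ _)
  have h4 := finrank_ker_le k hd hD hE hF f
  omega

include hd in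
theorem deg_le_of_mono {n : ℕ} {E F : X.Modules}
    (hE : FlatMod.IsFinLocFreeOfRank n E) (hF : FlatMod.IsFinLocFreeOfRank n F) (f : E ⟶ F) [Mono f] :
    Curv2.deg k X E n ≤ Curv2.deg k X F n ∧ (Curv2.deg k X E n = Curv2.deg k X F n → IsIso f) := by
  rw [dg_eq k hE, dg_eq k hF]
  exact Groth.L21.Bundle.dg_le_of_mono hd k f (isCoh_of_rank hE) (isCoh_of_rank hF)
    ((rk_eq hE).trans (rk_eq hF).symm)

theorem rank_le_of_mono {r n : ℕ} {E F : X.Modules}
    (hE : FlatMod.IsFinLocFreeOfRank r E) (hF : FlatMod.IsFinLocFreeOfRank n F) (f : E ⟶ F) [Mono f] : r ≤ n := by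
  rw [← rk_eq hE, ← rk_eq hF]
  exact Groth.L21.Bundle.rk_le_of_mono f (isCoh_of_rank hE) (isCoh_of_rank hF)

/-- The parabolic degree of a mono of equal rank, for weights in `[0, 1]`. -/
theorem gpDeg_le_of_mono (hd : topologicalKrullDim X ≤ 1) (hD : FGA.IsEffCartier I) (α : ℝ) (hα0 : 0 ≤ α) (hα1 : α ≤ 1)
    {n : ℕ} {E F : X.Modules} (hE : FlatMod.IsFinLocFreeOfRank n E) (hF : FlatMod.IsFinLocFreeOfRank n F) (f : E ⟶ F) [Mono f]
    (P : Submodule k (ParSh.fibD X I E)) (Q : Submodule k (ParSh.fibD X I F))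
    (hPQ : P.map (ParSh.fibDMap k X I f) ≤ Q) :
    ParSh.gpDeg k X α E P n ≤ ParSh.gpDeg k X α F Q n := by
  have h1 : ((Module.finrank k P : ℤ) : ℝ) ≤ ((Module.finrank k Q + (Curv2.deg k X F n - Curv2.deg k X E n) : ℤ) : ℝ) :=
    Int.cast_le.2 (finrank_le_of_mono k hd hD hE hF f P Q hPQ)
  have h2 : ((Curv2.deg k X E n : ℤ) : ℝ) ≤ (Curv2.deg k X F n : ℝ) := Int.cast_le.2 (deg_le_of_mono k hd hE hF f).1
  push_cast at h1
  simp only [ParSh.gpDeg, ParSh.gpWt]
  nlinarith

/-- Equal parabolic degree forces an isomorphism of structures. -/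
theorem isIso_of_gpDeg_eq (hd : topologicalKrullDim X ≤ 1) (hD : FGA.IsEffCartier I) (α : ℝ) (hα0 : 0 ≤ α) (hα1 : α < 1)
    {n : ℕ} {E F : X.Modules} (hE : FlatMod.IsFinLocFreeOfRank n E) (hF : FlatMod.IsFinLocFreeOfRank n F) (f : E ⟶ F) [Mono f]
    (P : Submodule k (ParSh.fibD X I E)) (Q : Submodule k (ParSh.fibD X I F))
    (hPQ : P.map (ParSh.fibDMap k X I f) ≤ Q) (heq : ParSh.gpDeg k X α E P n = ParSh.gpDeg k X α F Q n) :
    IsIso f ∧ (0 < α → P.map (ParSh.fibDMap k X I f) = Q) := by
  have h1 : ((Module.finrank k P : ℤ) : ℝ) ≤ ((Module.finrank k Q + (Curv2.deg k X F n - Curv2.deg k X E n) : ℤ) : ℝ) :=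
    Int.cast_le.2 (finrank_le_of_mono k hd hD hE hF f P Q hPQ)
  have h2 : ((Curv2.deg k X E n : ℤ) : ℝ) ≤ (Curv2.deg k X F n : ℝ) := Int.cast_le.2 (deg_le_of_mono k hd hE hF f).1
  push_cast at h1
  simp only [ParSh.gpDeg, ParSh.gpWt] at heq
  have h3 : ((Curv2.deg k X E n : ℤ) : ℝ) = (Curv2.deg k X F n : ℝ) := by nlinarith
  haveI hiso := (deg_le_of_mono k hd hE hF f).2 (Int.cast_injective h3)
  refine ⟨hiso, fun hα => ?_⟩
  have h4 : (Module.finrank k P : ℝ) = (Module.finrank k Q : ℝ) := by
    have := mul_left_cancel₀ hα.ne' (show α * (Module.finrank k P : ℝ) = α * (Module.finrank k Q : ℝ) by linarith)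
    exact this
  haveI := finite_fibD k I (isCoh_of_rank hF)
  refine Submodule.eq_of_le_of_finrank_eq hPQ ?_
  have hinj : Function.Injective (ParSh.fibDMap k X I f) := fun x y hxy => by
    have := congrArg (ParSh.fibDMap k X I (inv f)) hxy
    rwa [← fibDMap_comp, ← fibDMap_comp, IsIso.hom_inv_id, fibDMap_id, fibDMap_id] at this
  rw [← (Submodule.equivMapOfInjective _ hinj P).finrank_eq]
  exact Nat.cast_injective h4

end Groth.L13.GPar
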