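/-
Numerical comparison of semistability for the weights `α` and `1`.
-/
import Groth.Agent.L13.GPar.Basic

set_option autoImplicit false
set_option linter.style.haveILetI false
set_option linter.unusedSectionVars false
set_option backward.isDefEq.respectTransparency false

universe u

open CategoryTheory CategoryTheory.Limits AlgebraicGeometry

noncomputable section

namespace Groth.L13.GPar

variable {X : Scheme.{u}} (k : Type u) [Field k] [X.Over (Spec (CommRingCat.of k))]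
  [IsProper (X ↘ Spec (CommRingCat.of k))] [IsIntegral X] [IsLocallyNoetherian X]
  (hd : topologicalKrullDim X ≤ 1) {I : X.IdealSheafData} (hD : FGA.IsEffCartier I)
  {E : X.Modules} {n : ℕ} (hE : FlatMod.IsFinLocFreeOfRank n E) (F₁ : Submodule k (ParSh.fibD X I E))

include hd hD hE in
theorem gp_le_of_rank_eq (α : ℝ) (hα0 : 0 ≤ α) (hα1 : α ≤ 1) {F : X.Modules} (i : F ⟶ E) [Mono i]
    (hF : FlatMod.IsFinLocFreeOfRank n F) :
    ParSh.gpDeg k X α F (ParSh.gpInduced k X I i F₁) n * (n : ℝ) ≤ ParSh.gpDeg k X α E F₁ n * (n : ℝ) :=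
  mul_le_mul_of_nonneg_right
    (gpDeg_le_of_mono k hd hD α hα0 hα1 hF hE i _ _ (Submodule.map_comap_le _ _)) (Nat.cast_nonneg n)

include hd hD hE in
/-- Stability implies semistability. -/
theorem semistable_of_stable (α : ℝ) (hα0 : 0 ≤ α) (hα1 : α ≤ 1) (h : ParSh.IsGPStable k X I α F₁ n) :
    ParSh.IsGPSemistable k X I α F₁ n := by
  intro F r i hi hr hF
  rcases (rank_le_of_mono hF hE i).lt_or_eq with hlt | rfl
  · exact (h F r i hi hr hlt hF).le
  · exact gp_le_of_rank_eq k hd hD hE F₁ α hα0 hα1 i hF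

variable {d : ℕ} (hd0 : 0 < d)
  (hdegD : ∀ (G : X.Modules) (r : ℕ), FlatMod.IsFinLocFreeOfRank r G → Module.finrank k (ParSh.fibD X I G) = r * d)

include hdegD in
theorem finrank_le_mul {G : X.Modules} {r : ℕ} (hG : FlatMod.IsFinLocFreeOfRank r G)
    (P : Submodule k (ParSh.fibD X I G)) : (Module.finrank k P : ℝ) ≤ (r : ℝ) * (d : ℝ) := by
  haveI := finite_fibD k I (Groth.L21.Bundle.isCoh_of_rank hG)
  have := Submodule.finrank_le P
  rw [hdegD G r hG] at this
  exact_mod_cast this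

include hd0 in
omit [X.Over (Spec (CommRingCat.of k))] [IsProper (X ↘ Spec (CommRingCat.of k))] [IsIntegral X] [IsLocallyNoetherian X] in
theorem one_sub_mul_lt (hn : 2 ≤ n) {α : ℝ} (hα : 1 - 1 / ((d : ℝ) * (n : ℝ) * ((n : ℝ) - 1)) < α) (hα1 : α < 1)
    {x : ℝ} (hx : x ≤ (d : ℝ) * (n : ℝ) * ((n : ℝ) - 1)) : (1 - α) * x < 1 := by
  have hn' : (2 : ℝ) ≤ (n : ℝ) := by exact_mod_cast hn
  have hd' : (0 : ℝ) < (d : ℝ) := by exact_mod_cast hd0
  have hD' : (0 : ℝ) < (d : ℝ) * (n : ℝ) * ((n : ℝ) - 1) := by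
    have : (0 : ℝ) < (n : ℝ) - 1 := by linarith
    positivity
  have h1 : (1 - α) * ((d : ℝ) * (n : ℝ) * ((n : ℝ) - 1)) < 1 := by
    rw [← lt_div_iff₀ hD']
    linarith
  nlinarith

include hd hD hE hd0 hdegD in
/-- `α`-semistable implies `1`-semistable. -/
theorem one_semistable (hn : 2 ≤ n) {α : ℝ} (hα1 : α < 1)
    (hα : 1 - 1 / ((d : ℝ) * (n : ℝ) * ((n : ℝ) - 1)) < α) (h : ParSh.IsGPSemistable k X I α F₁ n) :
    ParSh.IsGPSemistable k X I 1 F₁ n := by
  intro F r i hi hr hF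
  rcases (rank_le_of_mono hF hE i).lt_or_eq with hlt | rfl
  · have h0 := h F r i hi hr hF
    simp only [ParSh.gpDeg, ParSh.gpWt, one_mul] at h0 ⊢
    set e := Module.finrank k (ParSh.gpInduced k X I i F₁)
    set f := Module.finrank k F₁
    have he : (e : ℝ) ≤ (r : ℝ) * (d : ℝ) := finrank_le_mul k hdegD hF _
    have hr1 : (r : ℝ) ≤ (n : ℝ) - 1 := by
      rw [le_sub_iff_add_le]
      exact_mod_cast hlt
    have hen : (e : ℝ) * n ≤ (d : ℝ) * n * ((n : ℝ) - 1) := by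
      have := mul_le_mul_of_nonneg_left hr1 (Nat.cast_nonneg (α := ℝ) d)
      have h2 : (e : ℝ) ≤ (d : ℝ) * ((n : ℝ) - 1) := by linarith
      nlinarith [mul_le_mul_of_nonneg_right h2 (Nat.cast_nonneg (α := ℝ) n)]
    have h1 := one_sub_mul_lt hd0 hn hα hα1 hen
    have hfr : 0 ≤ (f : ℝ) * r := by positivity
    have h2 : ((Curv2.deg k X F r : ℝ) + e) * n - ((Curv2.deg k X E n : ℝ) + f) * r < 1 := by nlinarith
    have h3 : ((Curv2.deg k X F r + e) * n - (Curv2.deg k X E n + f) * r : ℤ) < 1 := by exact_mod_cast h2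
    have h4 : (Curv2.deg k X F r + e) * (n : ℤ) ≤ (Curv2.deg k X E n + f) * (r : ℤ) := by omega
    exact_mod_cast h4
  · exact gp_le_of_rank_eq k hd hD hE F₁ 1 zero_le_one le_rfl i hF

include hE hd0 hdegD in
/-- `1`-stable implies `α`-stable. -/
theorem stable_of_one_stable (hn : 2 ≤ n) {α : ℝ} (hα1 : α < 1)
    (hα : 1 - 1 / ((d : ℝ) * (n : ℝ) * ((n : ℝ) - 1)) < α) (h : ParSh.IsGPStable k X I 1 F₁ n) :
    ParSh.IsGPStable k X I α F₁ n := by
  intro F r i hi hr hlt hF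
  have h0 := h F r i hi hr hlt hF
  simp only [ParSh.gpDeg, ParSh.gpWt, one_mul] at h0 ⊢
  set e := Module.finrank k (ParSh.gpInduced k X I i F₁)
  set f := Module.finrank k F₁
  have h1 : ((Curv2.deg k X F r : ℝ) + e) * n + 1 ≤ ((Curv2.deg k X E n : ℝ) + f) * r := by
    have h' : (Curv2.deg k X F r + e) * (n : ℤ) < (Curv2.deg k X E n + f) * (r : ℤ) := by exact_mod_cast h0
    have h'' : (Curv2.deg k X F r + e) * (n : ℤ) + 1 ≤ (Curv2.deg k X E n + f) * (r : ℤ) := by omega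
    exact_mod_cast h''
  have hf : (f : ℝ) ≤ (n : ℝ) * (d : ℝ) := finrank_le_mul k hdegD hE _
  have hr1 : (r : ℝ) ≤ (n : ℝ) - 1 := by
    rw [le_sub_iff_add_le]
    exact_mod_cast hlt
  have hfr : (f : ℝ) * r ≤ (d : ℝ) * n * ((n : ℝ) - 1) := by
    have h2 := mul_le_mul hf hr1 (Nat.cast_nonneg r) (by positivity)
    linarith
  have h2 := one_sub_mul_lt hd0 hn hα hα1 hfr
  have he : 0 ≤ (e : ℝ) * n := by positivity
  nlinarith

omit [IsProper (X ↘ Spec (CommRingCat.of k))] [IsIntegral X] [IsLocallyNoetherian X] in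
/-- `1`-semistable implies `1`-stable, for coprime rank and degree. -/
theorem one_stable_of_coprime (hcop : IsCoprime (n : ℤ) (Curv2.deg k X E n)) {a : ℕ}
    (ha : Module.finrank k F₁ = a * n) (h : ParSh.IsGPSemistable k X I 1 F₁ n) :
    ParSh.IsGPStable k X I 1 F₁ n := by
  intro F r i hi hr hlt hF
  refine lt_of_le_of_ne (h F r i hi hr hF) fun h0 => ?_
  simp only [ParSh.gpDeg, ParSh.gpWt, one_mul, ha, Nat.cast_mul] at h0
  set e := Module.finrank k (ParSh.gpInduced k X I i F₁)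
  have h1 : (Curv2.deg k X F r + e) * (n : ℤ) = (Curv2.deg k X E n + a * n) * (r : ℤ) := by exact_mod_cast h0
  have h2 : (n : ℤ) ∣ Curv2.deg k X E n * (r : ℤ) :=
    ⟨Curv2.deg k X F r + e - a * r, by linarith⟩
  have h3 : (n : ℤ) ∣ (r : ℤ) := hcop.dvd_of_dvd_mul_left h2
  have h4 : n ∣ r := Int.natCast_dvd_natCast.1 h3
  exact absurd (Nat.le_of_dvd hr h4) (not_le.2 hlt)

end Groth.L13.GPar

namespace Groth.L13.GPar

variable {X : Scheme.{u}} (k : Type u) [Field k] [X.Over (Spec (CommRingCat.of k))]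
  [IsProper (X ↘ Spec (CommRingCat.of k))] [IsIntegral X] [IsLocallyNoetherian X]

/-- Monotonicity of the parabolic degree with its equality case. -/
theorem gpDeg_le_and_eq_iff (hd : topologicalKrullDim X ≤ 1) {I : X.IdealSheafData} (hD : FGA.IsEffCartier I)
    (α : ℝ) (hα0 : 0 ≤ α) (hα1 : α < 1) {n : ℕ} {E F : X.Modules} (hE : FlatMod.IsFinLocFreeOfRank n E)
    (hF : FlatMod.IsFinLocFreeOfRank n F) (f : E ⟶ F) [Mono f] (P : Submodule k (ParSh.fibD X I E))
    (Q : Submodule k (ParSh.fibD X I F)) (hPQ : P.map (ParSh.fibDMap k X I f) ≤ Q) :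
    ParSh.gpDeg k X α E P n ≤ ParSh.gpDeg k X α F Q n ∧
      (ParSh.gpDeg k X α E P n = ParSh.gpDeg k X α F Q n ↔
        (IsIso f ∧ (0 < α → P.map (ParSh.fibDMap k X I f) = Q))) := by
  refine ⟨gpDeg_le_of_mono k hd hD α hα0 hα1.le hE hF f P Q hPQ,
    ⟨isIso_of_gpDeg_eq k hd hD α hα0 hα1 hE hF f P Q hPQ, ?_⟩⟩
  rintro ⟨hiso, hmap⟩
  have hdeg : Curv2.deg k X E n = Curv2.deg k X F n := by
    simp only [Curv2.deg, Groth.L03.Euler.euler_iso (asIso f)]
  have hinj : Function.Injective (ParSh.fibDMap k X I f) := fun x y hxy => by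
    have := congrArg (ParSh.fibDMap k X I (inv f)) hxy
    rwa [← fibDMap_comp, ← fibDMap_comp, IsIso.hom_inv_id, fibDMap_id, fibDMap_id] at this
  simp only [ParSh.gpDeg, ParSh.gpWt, hdeg]
  rcases hα0.eq_or_lt with rfl | hα
  · simp
  · rw [← hmap hα, ← (Submodule.equivMapOfInjective _ hinj P).finrank_eq]

end Groth.L13.GPar
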