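/-
Homomorphisms of generalized parabolic bundles of equal slope.
-/
import Groth.Agent.L13.GPar.Numeric
import Groth.Agent.L21.Bundle.Stable
import Groth.Agent.L03.Euler.Twist

set_option autoImplicit false
set_option linter.style.haveILetI false
set_option linter.unusedSectionVars false
set_option backward.isDefEq.respectTransparency false

universe u

open CategoryTheory CategoryTheory.Limits AlgebraicGeometry

noncomputable section

namespace Groth.L13.GPar

open Groth.L21.Bundle (rk rk_eq rk_add dg dg_eq dg_add isCoh_of_rank)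
open Groth.L21.RR (h hk)

variable {X : Scheme.{u}}

/-- Tensoring with `O_D` preserves a short exact sequence with locally free quotient. -/
theorem shortExact_R (I : X.IdealSheafData) {S : ShortComplex X.Modules} (hS : S.ShortExact) {r : ℕ}
    (h3 : FlatMod.IsFinLocFreeOfRank r S.X₃) :
    haveI : PreservesColimitsOfSize.{0, 0} (R I) := preservesColimitsOfSize_shrink.{0, u, 0, u} _
    haveI : (R I).PreservesZeroMorphisms := Functor.preservesZeroMorphisms_of_preserves_initial_object
    (S.map (R I)).ShortExact := by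
  have hflat := Groth.L29.DC.isFlat_of_isFinLocFree (Groth.L22.CurveDeg.isFinLocFree_of_rank h3)
  refine (ShortComplex.shortExact_iff_of_iso ?_).2
    (Groth.L00.KFlat.shortExact_tensor_of_flat (ClSub.quotMod I) S hS hflat)
  refine ShortComplex.isoMk ((Groth.L00.Tensor.tensorFlipIso _).app S.X₁)
    ((Groth.L00.Tensor.tensorFlipIso _).app S.X₂) ((Groth.L00.Tensor.tensorFlipIso _).app S.X₃) ?_ ?_
  · exact (congrArg (_ ≫ ·) (Groth.L03.Euler.tensorBi_obj_map _ S.f)).trans
      ((Groth.L00.Tensor.tensorFlipIso _).hom.naturality S.f).symm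
  · exact (congrArg (_ ≫ ·) (Groth.L03.Euler.tensorBi_obj_map _ S.g)).trans
      ((Groth.L00.Tensor.tensorFlipIso _).hom.naturality S.g).symm

variable (k : Type u) [Field k] [X.Over (Spec (CommRingCat.of k))]
  [IsProper (X ↘ Spec (CommRingCat.of k))] [IsIntegral X] [IsLocallyNoetherian X]

/-- Subadditivity of the dimension of a structure along a short exact sequence. -/
theorem finrank_le_add (I : X.IdealSheafData) {S : ShortComplex X.Modules} (hS : S.ShortExact) {a b c : ℕ}
    (h1 : FlatMod.IsFinLocFreeOfRank a S.X₁) (h2 : FlatMod.IsFinLocFreeOfRank b S.X₂)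
    (h3 : FlatMod.IsFinLocFreeOfRank c S.X₃) (P : Submodule k (ParSh.fibD X I S.X₂)) :
    Module.finrank k P ≤ Module.finrank k (P.comap (ParSh.fibDMap k X I S.f)) +
      Module.finrank k (P.map (ParSh.fibDMap k X I S.g)) := by
  haveI : PreservesColimitsOfSize.{0, 0} (R I) := preservesColimitsOfSize_shrink.{0, u, 0, u} _
  haveI : (R I).PreservesZeroMorphisms := Functor.preservesZeroMorphisms_of_preserves_initial_object
  have hR := shortExact_R I hS h3
  haveI := finite_fibD k I (isCoh_of_rank h1)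
  haveI := finite_fibD k I (isCoh_of_rank h2)
  have e1 := finrank_le_map_add_ker (ParSh.fibDMap k X I S.g) P
  have e2 : P ⊓ LinearMap.ker (ParSh.fibDMap k X I S.g) ≤
      (P.comap (ParSh.fibDMap k X I S.f)).map (ParSh.fibDMap k X I S.f) := fun x ⟨hx, hx'⟩ => by
    have hx'' : hk k ((R I).map S.g) 0 x = 0 := (fibDMap_apply k I S.g x).symm.trans hx'
    obtain ⟨y, hy⟩ := (Groth.L16.CohLinear.exact_hmap_hmap hR 0 x).1 hx''
    have hy' : ParSh.fibDMap k X I S.f y = x := (fibDMap_apply k I S.f y).trans hy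
    exact ⟨y, by rwa [SetLike.mem_coe, Submodule.mem_comap, hy'], hy'⟩
  have e3 := (Submodule.finrank_mono e2).trans (Submodule.finrank_map_le _ _)
  omega

theorem shortExact_factorThruImage {E F : X.Modules} (f : E ⟶ F) :
    (ShortComplex.mk (kernel.ι f) (Abelian.factorThruImage f)
      (by rw [← cancel_mono (Abelian.image.ι f), Category.assoc, Abelian.image.fac, kernel.condition,
        zero_comp])).ShortExact :=
  Groth.L16.Devissage.shortExact_kernel_image f

variable (hreg : ∀ x : X, IsRegularLocalRing (X.presheaf.stalk x)) (hd : topologicalKrullDim X ≤ 1)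
  {I : X.IdealSheafData}

attribute [local irreducible] Groth.L21.Bundle.dg Groth.L21.Bundle.rk

include hreg hd in
/-- Kernel and image of a parabolic homomorphism. -/
theorem decomp (α : ℝ) (hα0 : 0 ≤ α) {n m : ℕ} {E F : X.Modules}
    (hE : FlatMod.IsFinLocFreeOfRank n E) (hF : FlatMod.IsFinLocFreeOfRank m F) (f : E ⟶ F)
    (P : Submodule k (ParSh.fibD X I E)) (Q : Submodule k (ParSh.fibD X I F))
    (hPQ : P.map (ParSh.fibDMap k X I f) ≤ Q) :
    FlatMod.IsFinLocFreeOfRank (rk (kernel f)) (kernel f) ∧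
      FlatMod.IsFinLocFreeOfRank (rk (Abelian.image f)) (Abelian.image f) ∧
      n = rk (kernel f) + rk (Abelian.image f) ∧ rk (Abelian.image f) ≤ m ∧
      ParSh.gpDeg k X α E P n ≤
        ParSh.gpDeg k X α (kernel f) (ParSh.gpInduced k X I (kernel.ι f) P) (rk (kernel f)) +
        ParSh.gpDeg k X α (Abelian.image f) (ParSh.gpInduced k X I (Abelian.image.ι f) Q) (rk (Abelian.image f)) := by
  have hcE := isCoh_of_rank hE
  have hcF := isCoh_of_rank hF
  obtain ⟨hcK, hcI, -⟩ := Groth.L03.ShStab.Basic.coh_parts k hcE hcF f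
  have hK := Groth.L21.Bundle.locFree_of_mono hreg hd (kernel.ι f) hcK hE
  have hI := Groth.L21.Bundle.locFree_of_mono hreg hd (Abelian.image.ι f) hcI hF
  have hS := shortExact_factorThruImage f
  have hr : n = rk (kernel f) + rk (Abelian.image f) := (rk_eq hE).symm.trans (rk_add hS hcE)
  have hdeg : dg k E = dg k (kernel f) + dg k (Abelian.image f) := dg_add hd k hS hcK hcE hcI
  refine ⟨hK, hI, hr, rank_le_of_mono hI hF (Abelian.image.ι f), ?_⟩
  haveI := finite_fibD k I hcI
  have h1 := finrank_le_add k I hS hK hE hI P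
  have h2 : P.map (ParSh.fibDMap k X I (Abelian.factorThruImage f)) ≤
      ParSh.gpInduced k X I (Abelian.image.ι f) Q := by
    rintro _ ⟨x, hx, rfl⟩
    show ParSh.fibDMap k X I (Abelian.image.ι f) _ ∈ Q
    rw [← fibDMap_comp, Abelian.image.fac]
    exact hPQ ⟨x, hx, rfl⟩
  have h3 := h1.trans (Nat.add_le_add_left (Submodule.finrank_mono h2) _)
  have h4 : (Module.finrank k P : ℝ) ≤
      (Module.finrank k (ParSh.gpInduced k X I (kernel.ι f) P) : ℝ) +
      (Module.finrank k (ParSh.gpInduced k X I (Abelian.image.ι f) Q) : ℝ) := by exact_mod_cast h3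
  simp only [ParSh.gpDeg, ParSh.gpWt]
  rw [dg_eq k hE, dg_eq k hK, dg_eq k hI, hdeg]
  push_cast
  nlinarith

include hd in
theorem gpDeg_rank_zero (hD : FGA.IsEffCartier I) (α : ℝ) {K : X.Modules} (hK : FlatMod.IsFinLocFreeOfRank 0 K)
    (P : Submodule k (ParSh.fibD X I K)) : ParSh.gpDeg k X α K P 0 = 0 := by
  haveI := finite_fibD k I (isCoh_of_rank hK)
  have h1 := finrank_fibD k (suppClosed_quotMod hd hD) hK
  have h2 := Submodule.finrank_le P
  have h3 : Module.finrank k P = 0 := by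
    rw [Nat.cast_zero, zero_mul] at h1
    omega
  have h4 : Curv2.deg k X K 0 = 0 := by
    rw [dg_eq k hK]
    exact Groth.L21.Bundle.dg_eq_zero_of_isZero k hd (Groth.L21.Bundle.isZero_of_rank_zero hK)
  simp [ParSh.gpDeg, ParSh.gpWt, h3, h4]

variable {n m : ℕ} {E F : X.Modules}

include hreg hd in
/-- The slope inequality between the source and the image. -/
theorem image_slope (hD : FGA.IsEffCartier I) (α : ℝ) (hα0 : 0 ≤ α)
    (hE : FlatMod.IsFinLocFreeOfRank n E) (hF : FlatMod.IsFinLocFreeOfRank m F) (f : E ⟶ F) (hf : f ≠ 0)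
    (P : Submodule k (ParSh.fibD X I E)) (Q : Submodule k (ParSh.fibD X I F))
    (hPQ : P.map (ParSh.fibDMap k X I f) ≤ Q) (hss : ParSh.IsGPSemistable k X I α P n) :
    0 < rk (Abelian.image f) ∧
      ParSh.gpDeg k X α E P n * rk (Abelian.image f) ≤
        ParSh.gpDeg k X α (Abelian.image f) (ParSh.gpInduced k X I (Abelian.image.ι f) Q) (rk (Abelian.image f)) * n ∧
      (ParSh.IsGPStable k X I α P n → 0 < rk (kernel f) →
        ParSh.gpDeg k X α E P n * rk (Abelian.image f) <
          ParSh.gpDeg k X α (Abelian.image f) (ParSh.gpInduced k X I (Abelian.image.ι f) Q) (rk (Abelian.image f)) * n) := by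
  obtain ⟨hK, hI, hr, hm, hle⟩ := decomp k hreg hd α hα0 hE hF f P Q hPQ
  have hpos : 0 < rk (Abelian.image f) := Nat.pos_of_ne_zero fun h0 => hf (by
    rw [← Abelian.image.fac f,
      (Groth.L21.Bundle.isZero_of_rank_zero (h0 ▸ hI)).eq_of_src (Abelian.image.ι f) 0, comp_zero])
  refine ⟨hpos, ?_⟩
  generalize hb : rk (Abelian.image f) = b at hr hI hle hpos ⊢
  generalize ha : rk (kernel f) = a at hr hK hle ⊢
  have hr' : (n : ℝ) = (a : ℝ) + (b : ℝ) := by rw [hr]; push_cast; rfl
  have hn0 : (0 : ℝ) ≤ (n : ℝ) := Nat.cast_nonneg n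
  constructor
  · rcases a.eq_zero_or_pos with rfl | ha0
    · rw [gpDeg_rank_zero k hd hD α hK, zero_add] at hle
      rw [show (b : ℝ) = (n : ℝ) by rw [hr']; simp]
      exact mul_le_mul_of_nonneg_right hle hn0
    · have h1 := hss _ a (kernel.ι f) inferInstance ha0 hK
      rw [hr'] at h1 hn0 ⊢
      nlinarith [mul_le_mul_of_nonneg_right hle hn0]
  · intro hst ha0
    have h1 := hst _ a (kernel.ι f) inferInstance ha0 (by omega) hK
    rw [hr'] at h1 hn0 ⊢
    nlinarith [mul_le_mul_of_nonneg_right hle hn0]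

include hreg hd in
/-- A nonzero homomorphism between stable structures of equal slope is an isomorphism. -/
theorem isIso_of_stable (hD : FGA.IsEffCartier I) (α : ℝ) (hα0 : 0 ≤ α) (hα1 : α < 1) (hn : 0 < n) (hm : 0 < m)
    (hE : FlatMod.IsFinLocFreeOfRank n E) (hF : FlatMod.IsFinLocFreeOfRank m F)
    (P : Submodule k (ParSh.fibD X I E)) (Q : Submodule k (ParSh.fibD X I F))
    (hEss : ParSh.IsGPSemistable k X I α P n) (hEst : ParSh.IsGPStable k X I α P n)
    (hFss : ParSh.IsGPSemistable k X I α Q m) (hFst : ParSh.IsGPStable k X I α Q m)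
    (hμ : ParSh.gpDeg k X α E P n * (m : ℝ) = ParSh.gpDeg k X α F Q m * (n : ℝ))
    (f : E ⟶ F) (hPQ : P.map (ParSh.fibDMap k X I f) ≤ Q) (hf : f ≠ 0) :
    IsIso f ∧ (0 < α → P.map (ParSh.fibDMap k X I f) = Q) := by
  obtain ⟨hK, hI, hr, hle', hle⟩ := decomp k hreg hd α hα0 hE hF f P Q hPQ
  obtain ⟨hb0, h1, h2⟩ := image_slope k hreg hd hD α hα0 hE hF f hf P Q hPQ hEss
  have hn' : (0 : ℝ) < (n : ℝ) := Nat.cast_pos.2 hn
  have hm' : (0 : ℝ) < (m : ℝ) := Nat.cast_pos.2 hm
  have h3 := hFss _ _ (Abelian.image.ι f) inferInstance hb0 hI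
  generalize hJ : ParSh.gpDeg k X α (Abelian.image f) (ParSh.gpInduced k X I (Abelian.image.ι f) Q)
    (rk (Abelian.image f)) = dJ at h1 h2 h3 hle
  generalize hb : rk (Abelian.image f) = b at *
  have ha0 : rk (kernel f) = 0 := by
    refine Nat.eq_zero_of_not_pos fun ha => ?_
    have h4 := mul_lt_mul_of_pos_right (h2 hEst ha) hm'
    have h5 := mul_le_mul_of_nonneg_right h3 hn'.le
    have h6 := congrArg (· * (b : ℝ)) hμ
    linarith
  have hbn : b = n := by omega
  haveI : Mono f := Preadditive.mono_of_isZero_kernel f (Groth.L21.Bundle.isZero_of_rank_zero (ha0 ▸ hK))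
  have hnm : n = m := by
    rcases (hbn ▸ hle' : n ≤ m).lt_or_eq with hlt | h
    · exfalso
      have h4 := hFst _ b (Abelian.image.ι f) inferInstance hb0 (by omega) hI
      rw [hJ, hbn] at h4
      rw [hbn] at h1
      nlinarith [mul_le_mul_of_nonneg_right h1 hm'.le, mul_lt_mul_of_pos_right h4 hn']
    · exact h
  subst hnm
  exact isIso_of_gpDeg_eq k hd hD α hα0 hα1 hE hF f P Q hPQ (mul_right_cancel₀ hn'.ne' hμ)

include hreg hd in
/-- A homomorphism between semistable structures of equal slope has constant rank. -/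
theorem locFree_cokernel (hD : FGA.IsEffCartier I) (α : ℝ) (hα0 : 0 ≤ α) (hα1 : α < 1) (hn : 0 < n) (hm : 0 < m)
    (hE : FlatMod.IsFinLocFreeOfRank n E) (hF : FlatMod.IsFinLocFreeOfRank m F)
    (P : Submodule k (ParSh.fibD X I E)) (Q : Submodule k (ParSh.fibD X I F))
    (hEss : ParSh.IsGPSemistable k X I α P n) (hFss : ParSh.IsGPSemistable k X I α Q m)
    (hμ : ParSh.gpDeg k X α E P n * (m : ℝ) = ParSh.gpDeg k X α F Q m * (n : ℝ))
    (f : E ⟶ F) (hPQ : P.map (ParSh.fibDMap k X I f) ≤ Q) :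
    ∃ r₀ : ℕ, FlatMod.IsFinLocFreeOfRank r₀ (cokernel f) := by
  rcases eq_or_ne f 0 with rfl | hf
  · exact ⟨_, Groth.L21.Bundle.locFree_of_mono hreg hd (cokernelZeroIsoTarget (X := E) (Y := F)).hom
      (Groth.L03.ShStab.Basic.coh_parts k (isCoh_of_rank hE) (isCoh_of_rank hF) (0 : E ⟶ F)).2.2 hF⟩
  obtain ⟨hK, hI, hr, hle', hle⟩ := decomp k hreg hd α hα0 hE hF f P Q hPQ
  obtain ⟨hb0, h1, -⟩ := image_slope k hreg hd hD α hα0 hE hF f hf P Q hPQ hEss
  have hcE := isCoh_of_rank hE
  have hcF := isCoh_of_rank hF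
  obtain ⟨-, hcI, hcC⟩ := Groth.L03.ShStab.Basic.coh_parts k hcE hcF f
  obtain ⟨W, p, hp, hcK, hK0, hW⟩ := Groth.L21.Bundle.exists_locFree_quotient hreg hd hcC
  let g := cokernel.π f ≫ p
  haveI : Epi g := epi_comp _ _
  have hcJ : Coh.IsCoh (kernel g) := (Groth.L03.ShStab.Basic.coh_parts k hcF (isCoh_of_rank hW) g).1
  have hJ := Groth.L21.Bundle.locFree_of_mono hreg hd (kernel.ι g) hcJ hF
  let t : Abelian.image f ⟶ kernel g := kernel.lift g (Abelian.image.ι f)
    (by show Abelian.image.ι f ≫ cokernel.π f ≫ p = 0; rw [← Category.assoc, kernel.condition, zero_comp])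
  have ht : t ≫ kernel.ι g = Abelian.image.ι f := kernel.lift_ι _ _ _
  haveI : Mono t := mono_of_mono_fac ht
  let S₂ : ShortComplex X.Modules := ShortComplex.mk (Abelian.image.ι f) (cokernel.π f) (kernel.condition _)
  have hS₂ : S₂.ShortExact := { exact := ShortComplex.exact_of_f_is_kernel _ (kernelIsKernel (cokernel.π f)) }
  have hrF : rk F = rk (Abelian.image f) + rk (cokernel f) := rk_add hS₂ hcF
  have hrF' : rk F = rk (kernel g) + rk W := rk_add (Groth.L21.Bundle.shortExact_kernel g) hcF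
  have hdF : dg k F = dg k (Abelian.image f) + dg k (cokernel f) := dg_add hd k hS₂ hcI hcF hcC
  have hdF' : dg k F = dg k (kernel g) + dg k W :=
    dg_add hd k (Groth.L21.Bundle.shortExact_kernel g) hcJ hcF (isCoh_of_rank hW)
  have hrk : rk (kernel g) = rk (Abelian.image f) := by
    have := rk_eq hW
    omega
  rw [hrk] at hJ
  have hPQ' : (ParSh.gpInduced k X I (Abelian.image.ι f) Q).map (ParSh.fibDMap k X I t) ≤
      ParSh.gpInduced k X I (kernel.ι g) Q := by
    rintro _ ⟨x, hx, rfl⟩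
    show ParSh.fibDMap k X I (kernel.ι g) _ ∈ Q
    rw [← fibDMap_comp, ht]
    exact hx
  have h2 := gpDeg_le_of_mono k hd hD α hα0 hα1.le hI hJ t _ _ hPQ'
  have h3 := hFss _ _ (kernel.ι g) inferInstance hb0 hJ
  have hn' : (0 : ℝ) < (n : ℝ) := Nat.cast_pos.2 hn
  have hm' : (0 : ℝ) < (m : ℝ) := Nat.cast_pos.2 hm
  have h4 : ParSh.gpDeg k X α F Q m * (rk (Abelian.image f) : ℝ) ≤
      ParSh.gpDeg k X α (Abelian.image f) (ParSh.gpInduced k X I (Abelian.image.ι f) Q) (rk (Abelian.image f)) * m := by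
    refine le_of_mul_le_mul_right ?_ hn'
    have h5 := mul_le_mul_of_nonneg_right h1 hm'.le
    have h6 := congrArg (· * (rk (Abelian.image f) : ℝ)) hμ
    linarith
  have h7 := le_antisymm h2 (le_of_mul_le_mul_right (h3.trans h4) hm')
  haveI := (isIso_of_gpDeg_eq k hd hD α hα0 hα1 hI hJ t _ _ hPQ' h7).1
  have h8 : dg k (Abelian.image f) = dg k (kernel g) := Groth.L21.Bundle.dg_iso k (asIso t)
  haveI := (Groth.L21.Bundle.dg_quotient_le hd k p hcC (isCoh_of_rank hW) hcK hK0).2 (by omega)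
  exact ⟨_, Groth.L21.Bundle.locFree_of_mono hreg hd p hcC hW⟩

end Groth.L13.GPar
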