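/-
Stable generalized parabolic bundles are simple.
-/
import Groth.Agent.L13.GPar.Hom
import Groth.Agent.L21.Bundle.Hom
import Groth.Agent.L21.Bundle.Duality
import Groth.Agent.L03.ShStab.Scalar

set_option autoImplicit false
set_option linter.style.haveILetI false
set_option linter.unusedSectionVars false
set_option backward.isDefEq.respectTransparency false

universe u

open CategoryTheory CategoryTheory.Limits AlgebraicGeometry Opposite

noncomputable section

namespace Groth.L13.GPar

open Groth.L03.ShStab.Scalar (sc)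

variable {X : Scheme.{u}} (k : Type u) [Field k] [X.Over (Spec (CommRingCat.of k))]
  [IsProper (X ↘ Spec (CommRingCat.of k))]

/-- A nonzero coherent module has no endomorphism all of whose translates by scalars are invertible. -/
theorem exists_not_isIso_sub_sc [IsAlgClosed k] {E : X.Modules} (hE : Coh.IsCoh E) (h0 : ¬ IsZero E) (φ : E ⟶ E) :
    ∃ c : k, ¬ IsIso (φ - sc E (Coh.toGlobal (X ↘ Spec (CommRingCat.of k)) c)) := by
  haveI : IsLocallyNoetherian X := Groth.L03.ShStab.Basic.locallyNoetherian (k := k)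
  obtain ⟨U, hU, hN⟩ := Groth.L03.ShStab.Scalar.exists_affine_nontrivial h0
  let f := (X ↘ Spec (CommRingCat.of k))
  let ρ : k →+* Γ(X, U) := (X.presheaf.map (homOfLE (le_top : U ≤ ⊤)).op).hom.comp (Coh.toGlobal f)
  have hρ : ρ.FiniteType := by
    have h1 : (f.appLE ⊤ U le_top).hom.FiniteType := f.finiteType_appLE (isAffineOpen_top _) hU le_top
    exact h1.comp (RingHom.FiniteType.of_surjective _ (Scheme.ΓSpecIso (CommRingCat.of k)).symm.commRingCatIsoToRingEquiv.surjective)
  letI : Algebra k Γ(X, U) := ρ.toAlgebra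
  haveI : Algebra.FiniteType k Γ(X, U) := hρ
  haveI : Module.Finite Γ(X, U) Γ(E, U) := Groth.L20.ModStalk.finite_sections E hE hU
  obtain ⟨c, hc⟩ := Groth.L03.ShStab.Scalar.exists_not_bijective (k := k) (R := Γ(X, U)) (M := Γ(E, U))
    (φ.val.app (op U)).hom
  refine ⟨c, fun hi => ?_⟩
  refine hc (Function.bijective_iff_has_inverse.2 ⟨(inv (φ - sc E (Coh.toGlobal f c))).val.app (op U),
    fun s => ?_, fun s => ?_⟩)
  · change ((φ - sc E (Coh.toGlobal f c)) ≫ inv (φ - sc E (Coh.toGlobal f c))).val.app (op U) s = s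
    rw [IsIso.hom_inv_id]; rfl
  · change (inv (φ - sc E (Coh.toGlobal f c)) ≫ (φ - sc E (Coh.toGlobal f c))).val.app (op U) s = s
    rw [IsIso.inv_hom_id]; rfl

/-- Translating a parabolic endomorphism by a scalar keeps it parabolic. -/
theorem map_sub_sc_le (I : X.IdealSheafData) {E : X.Modules} (P : Submodule k (ParSh.fibD X I E)) (φ : E ⟶ E)
    (hφ : P.map (ParSh.fibDMap k X I φ) ≤ P) (c : k) :
    P.map (ParSh.fibDMap k X I (φ - sc E (Coh.toGlobal (X ↘ Spec (CommRingCat.of k)) c))) ≤ P := by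
  rintro _ ⟨x, hx, rfl⟩
  set s := sc E (Coh.toGlobal (X ↘ Spec (CommRingCat.of k)) c)
  haveI : PreservesColimitsOfSize.{0, 0} (R I) := preservesColimitsOfSize_shrink.{0, u, 0, u} _
  haveI : PreservesBinaryBiproducts (R I) := preservesBinaryBiproducts_of_preservesBinaryCoproducts _
  haveI : (R I).Additive := Functor.additive_of_preservesBinaryBiproducts _
  have h1 : ParSh.fibDMap k X I φ x = ParSh.fibDMap k X I (φ - s) x + c • x := by
    have h2 : ParSh.fibDMap k X I φ x = ParSh.fibDMap k X I ((φ - s) + s) x := by rw [sub_add_cancel]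
    rw [h2, fibDMap_apply, fibDMap_apply, Functor.map_add]
    refine (Groth.L21.RR.hmap_add _ _ 0 x).trans (congrArg₂ (· + ·) rfl ?_)
    show Groth.L16.CohLinear.hmap (Groth.L00.Tensor.tensorMap s (𝟙 (ClSub.quotMod I))) 0 x = c • x
    rw [Groth.L21.Bundle.tensorMap_sc]
    exact Groth.L21.Bundle.hmap_sc _ _ 0 x
  have h3 := P.sub_mem (hφ ⟨x, hx, rfl⟩) (P.smul_mem c hx)
  rwa [h1, add_sub_cancel_right] at h3

variable [IsIntegral X] [IsLocallyNoetherian X]

/-- Stable generalized parabolic bundles are simple. -/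
theorem simple_of_stable [IsAlgClosed k] (hreg : ∀ x : X, IsRegularLocalRing (X.presheaf.stalk x))
    (hd : topologicalKrullDim X ≤ 1) {I : X.IdealSheafData} (hD : FGA.IsEffCartier I) (α : ℝ) (hα0 : 0 ≤ α)
    (hα1 : α < 1) {n : ℕ} (hn : 0 < n) {E : X.Modules} (hE : FlatMod.IsFinLocFreeOfRank n E)
    (P : Submodule k (ParSh.fibD X I E)) (hss : ParSh.IsGPSemistable k X I α P n)
    (hst : ParSh.IsGPStable k X I α P n) (φ : E ⟶ E) (hφ : P.map (ParSh.fibDMap k X I φ) ≤ P) :
    ∃ c : k, (SheafOfModules.toSheaf X.ringCatSheaf).map φ =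
      Coh.smulAb E (Coh.toGlobal (X ↘ Spec (CommRingCat.of k)) c) := by
  obtain ⟨c, hc⟩ := exists_not_isIso_sub_sc k (Groth.L21.Bundle.isCoh_of_rank hE)
    (Groth.L21.Bundle.not_isZero_of_rank hn hE) φ
  refine ⟨c, ?_⟩
  have h0 : φ - sc E (Coh.toGlobal (X ↘ Spec (CommRingCat.of k)) c) = 0 := by
    by_contra hne
    exact hc (isIso_of_stable k hreg hd hD α hα0 hα1 hn hn hE hE P P hss hst hss hst rfl _
      (map_sub_sc_le k I P φ hφ c) hne).1
  rw [sub_eq_zero.1 h0]
  exact Groth.L21.Bundle.toSheaf_sc E _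

end Groth.L13.GPar
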